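import Cfsg.Agent.InvolTwist.Reduce
import Cfsg.Prelude.Def_ChevE6

/-!
# The reduction table for involutions of 2E6 in characteristic two (owner: helper52; generated)
-/

set_option autoImplicit false

namespace Cfsg.Agent.InvolTwist.E6

open Cfsg.Lie

/-- The twist. -/
def dat : TwDat 6 where
  rho := [0, 1, 2, 5, 16, 3, 6, 17, 8, 19, 22, 11, 26, 30, 33, 35, 4, 7, 18, 9, 20, 23, 10, 21, 24, 25, 12, 27, 31, 34, 13, 28, 32, 14, 29, 15, 56, 42, 57, 39, 43, 58, 37, 40, 44, 59, 46, 47, 50, 61, 48, 51, 62, 53, 64, 67, 36, 38, 41, 45, 60, 49, 52, 63, 54, 65, 68, 55, 66, 69, 70, 71]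
  nu := [5, 1, 4, 3, 2, 0]
  orbW := [[1], [3], [2, 4], [0, 5]]
  w0 := [0, 1, 0, 2, 1, 0, 2, 1, 2, 3, 2, 1, 0, 2, 1, 2, 3, 2, 1, 0, 2, 1, 2, 3]

/-- A node of the reduction. -/
def node0 : TNode where
  A := []
  psi := [36, 37, 39, 42, 46, 56, 38, 40, 43, 47, 57, 41, 44, 48, 50, 58, 45, 49, 51, 59, 61, 52, 53, 60, 62, 54, 63, 64, 55, 65, 67, 66, 68, 69, 70, 71]
  chain := [[38, 40, 43, 47, 57, 41, 44, 48, 50, 58, 45, 49, 51, 59, 61, 52, 53, 60, 62, 54, 63, 64, 55, 65, 67, 66, 68, 69, 70, 71], [41, 44, 48, 50, 58, 45, 49, 51, 59, 61, 52, 53, 60, 62, 54, 63, 64, 55, 65, 67, 66, 68, 69, 70, 71], [45, 49, 51, 59, 61, 52, 53, 60, 62, 54, 63, 64, 55, 65, 67, 66, 68, 69, 70, 71], [52, 53, 60, 62, 54, 63, 64, 55, 65, 67, 66, 68, 69, 70, 71], [54, 63, 64, 55, 65, 67, 66, 68, 69, 70, 71], [55, 65, 67, 66, 68, 69, 70, 71], [66, 68, 69, 70, 71], [69, 70, 71], [70, 71], [71], []]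
  refls := [⟨38, [3]⟩, ⟨40, [1]⟩, ⟨43, [1]⟩, ⟨47, [1]⟩, ⟨57, [3]⟩, ⟨41, [3]⟩, ⟨44, [2]⟩, ⟨48, [0]⟩, ⟨50, [0]⟩, ⟨58, [3]⟩, ⟨45, [2]⟩, ⟨49, [3]⟩, ⟨51, [2]⟩, ⟨59, [2]⟩, ⟨61, [3]⟩, ⟨52, [2]⟩, ⟨53, [1]⟩, ⟨60, [3]⟩, ⟨62, [2]⟩, ⟨54, [1]⟩, ⟨63, [3]⟩, ⟨64, [1]⟩, ⟨55, [2]⟩, ⟨65, [3]⟩, ⟨67, [2]⟩, ⟨66, [3]⟩, ⟨68, [3]⟩, ⟨69, [2]⟩, ⟨70, [1]⟩, ⟨71, [0]⟩]
  strips := [⟨[36, 56], [37, 39, 42, 46, 38, 40, 43, 47, 57, 41, 44, 48, 50, 58, 45, 49, 51, 59, 61, 52, 53, 60, 62, 54, 63, 64, 55, 65, 67, 66, 68, 69, 70, 71], [⟨[37, 42, 38, 57], [39, 46, 47, 69, 70, 71, 40, 43, 41, 44, 48, 50, 58, 45, 49, 51, 59, 61, 52, 53, 60, 62, 54, 63, 64, 55, 65, 67, 66, 68], [4, 8, 0, 0]⟩, ⟨[40, 43, 41, 58], [39, 46, 47, 69, 70, 71, 44, 48, 50, 45, 49, 51, 59, 61, 52, 53, 60, 62, 54, 63, 64, 55, 65, 67, 66, 68], [4, 8, 0, 0]⟩, ⟨[48, 50, 49, 61], [39, 46, 47, 69, 70, 71, 44, 45, 51, 59, 52, 53, 60, 62, 54, 63,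 64, 55, 65, 67, 66, 68], [4, 8, 0, 0]⟩, ⟨[44, 45, 59, 60], [39, 46, 47, 69, 70, 71, 51, 52, 53, 62, 54, 63, 64, 55, 65, 67, 66, 68], [4, 12, 0, 0]⟩, ⟨[51, 52, 62, 63], [39, 46, 47, 69, 70, 71, 53, 54, 64, 55, 65, 67, 66, 68], [4, 12, 0, 0]⟩, ⟨[53, 54, 64, 65], [39, 46, 47, 69, 70, 71, 55, 67, 66, 68], [4, 12, 0, 0]⟩, ⟨[55, 67, 66, 68], [39, 46, 47, 69, 70, 71], [4, 8, 0, 0]⟩], [39, 46, 47, 69, 70, 71]⟩,
    ⟨[37, 42], [36, 39, 46, 56, 38, 40, 43, 47, 57, 41, 44, 48, 50, 58, 45, 49, 51, 59, 61, 52, 53, 60, 62, 54, 63, 64, 55, 65, 67, 66, 68, 69, 70, 71], [⟨[36, 56, 38, 57], [46, 53, 60, 63, 70, 71, 39, 40, 43, 47, 41, 44, 48, 50, 58, 45, 49, 51, 59, 61, 52, 62, 54, 64, 55, 65, 67, 66, 68, 69], [4, 8, 0, 0]⟩, ⟨[39, 40, 43, 44], [46, 53, 60, 63, 70, 71, 47, 41, 48, 50, 58, 45, 49, 51, 59, 61, 52, 62, 54, 64, 55, 65, 67, 66, 68, 69], [4, 12, 0, 0]⟩, ⟨[47, 48, 50, 51], [46,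 53, 60, 63, 70, 71, 41, 58, 45, 49, 59, 61, 52, 62, 54, 64, 55, 65, 67, 66, 68, 69], [4, 12, 0, 0]⟩, ⟨[41, 58, 45, 59], [46, 53, 60, 63, 70, 71, 49, 61, 52, 62, 54, 64, 55, 65, 67, 66, 68, 69], [4, 8, 0, 0]⟩, ⟨[49, 61, 52, 62], [46, 53, 60, 63, 70, 71, 54, 64, 55, 65, 67, 66, 68, 69], [4, 8, 0, 0]⟩, ⟨[54, 64, 55, 67], [46, 53, 60, 63, 70, 71, 65, 66, 68, 69], [4, 8, 0, 0]⟩, ⟨[65, 66, 68, 69], [46, 53, 60, 63, 70, 71], [4, 12, 0, 0]⟩], [46, 53, 60, 63, 70, 71]⟩,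
    ⟨[39], [36, 37, 42, 46, 56, 38, 40, 43, 47, 57, 41, 44, 48, 50, 58, 45, 49, 51, 59, 61, 52, 53, 60, 62, 54, 63, 64, 55, 65, 67, 66, 68, 69, 70, 71], [⟨[37, 42, 46, 40, 43, 47], [36, 56, 44, 48, 50, 45, 49, 59, 61, 60, 55, 67, 66, 68, 71, 38, 57, 41, 58, 51, 52, 53, 62, 54, 63, 64, 65, 69, 70], [8, 16, 32, 0, 0, 0]⟩, ⟨[38, 57, 41, 58], [36, 56, 44, 48, 50, 45, 49, 59, 61, 60, 55, 67, 66, 68, 71, 51, 52, 53, 62, 54, 63, 64, 65, 69, 70], [4, 8, 0, 0]⟩, ⟨[51, 53], [36, 56, 44, 48, 50, 45, 49, 59, 61, 60, 55, 67, 66, 68, 71, 52, 62, 54, 63, 64, 65, 69, 70], [2, 0]⟩, ⟨[52, 62, 54, 64], [36, 56, 44, 48, 50, 45, 49, 59, 61, 60, 55, 67, 66, 68, 71, 63, 65, 69, 70], [4, 8, 0, 0]⟩, ⟨[63, 65], [36, 56, 44, 48, 50, 45, 49, 59, 61, 60, 55, 67, 66, 68, 71, 69, 70], [2, 0]⟩, ⟨[69, 70], [36, 56, 44, 48, 50, 45, 49, 59, 61, 60, 55, 67, 66, 68, 71], [2, 0]⟩], [36, 56, 44, 48, 50, 45,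 49, 59, 61, 60, 55, 67, 66, 68, 71]⟩,
    ⟨[46], [36, 37, 39, 42, 56, 38, 40, 43, 47, 57, 41, 44, 48, 50, 58, 45, 49, 51, 59, 61, 52, 53, 60, 62, 54, 63, 64, 55, 65, 67, 66, 68, 69, 70, 71], [⟨[39, 47], [36, 37, 42, 56, 38, 57, 53, 54, 64, 55, 65, 67, 66, 68, 69, 40, 43, 41, 44, 48, 50, 58, 45, 49, 51, 59, 61, 52, 60, 62, 63, 70, 71], [2, 0]⟩, ⟨[40, 43, 48, 50], [36, 37, 42, 56, 38, 57, 53, 54, 64, 55, 65, 67, 66, 68, 69, 41, 44, 58, 45, 49, 51, 59, 61, 52, 60, 62, 63, 70, 71], [4, 8, 0, 0]⟩, ⟨[41, 44, 58, 49, 51, 61], [36, 37, 42, 56, 38, 57, 53, 54, 64, 55, 65, 67, 66, 68, 69, 45, 59, 52, 60, 62, 63, 70, 71], [8, 16, 32, 0, 0, 0]⟩, ⟨[45, 59, 52, 62], [36, 37, 42, 56, 38, 57, 53, 54, 64, 55, 65, 67, 66, 68, 69, 60, 63, 70, 71], [4, 8, 0, 0]⟩, ⟨[60, 63], [36, 37, 42, 56, 38, 57, 53, 54, 64, 55, 65, 67, 66, 68, 69, 70, 71], [2, 0]⟩, ⟨[70, 71], [36, 37, 42, 56, 38, 57, 53,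 54, 64, 55, 65, 67, 66, 68, 69], [2, 0]⟩], [36, 37, 42, 56, 38, 57, 53, 54, 64, 55, 65, 67, 66, 68, 69]⟩]
  moves := []

/-- A node of the reduction. -/
def node1 : TNode where
  A := [36, 56]
  psi := [39, 46, 47, 69, 70, 71]
  chain := [[47, 69, 70, 71], [69, 70, 71], [70, 71], [71], []]
  refls := [⟨47, [1]⟩, ⟨70, [1]⟩, ⟨71, [0]⟩]
  strips := [⟨[39], [46, 47, 69, 70, 71], [⟨[46, 47], [71, 69, 70], [2, 0]⟩, ⟨[69, 70], [71], [2, 0]⟩], [71]⟩,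
    ⟨[46], [39, 47, 69, 70, 71], [⟨[39, 47], [69, 70, 71], [2, 0]⟩, ⟨[70, 71], [69], [2, 0]⟩], [69]⟩,
    ⟨[69], [39, 46, 47, 70, 71], [⟨[39, 70], [46, 47, 71], [2, 0]⟩, ⟨[47, 71], [46], [2, 0]⟩], [46]⟩]
  moves := []

/-- A node of the reduction. -/
def node2 : TNode where
  A := [36, 56, 39]
  psi := [71]
  chain := [[]]
  refls := []
  strips := [⟨[71], [], [], []⟩]
  moves := [.norm]

/-- A node of the reduction. -/
def node3 : TNode where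
  A := [36, 56, 39, 71]
  psi := []
  chain := []
  refls := []
  strips := []
  moves := [.norm, .lam 12, .conj 45, .norm, .weyl [1, 2], .conj 8, .conj 20, .conj 25, .conj 47, .swap 0, .swap 2, .swap 1, .swap 0, .swap 3, .cancel 2, .swap 4, .swap 3, .swap 2, .swap 1, .cancel 0, .swap 3, .swap 2, .swap 1, .swap 6, .swap 5, .cancel 4, .swap 5, .swap 4, .swap 3, .cancel 2, .swap 3, .cancel 4, .swap 3, .swap 2, .cancel 1, .conj 10, .norm, .lam 49, .weyl [2, 0, 1, 2, 3, 0, 1, 2, 0], .norm]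

/-- A node of the reduction. -/
def node4 : TNode where
  A := [36, 56, 46]
  psi := [69]
  chain := [[]]
  refls := []
  strips := [⟨[69], [], [], []⟩]
  moves := [.weyl [0, 1], .norm]

/-- A node of the reduction. -/
def node5 : TNode where
  A := [36, 56, 46, 69]
  psi := []
  chain := []
  refls := []
  strips := []
  moves := [.weyl [0, 1], .norm, .lam 12, .conj 45, .norm, .weyl [1, 2], .conj 8, .conj 20, .conj 25, .conj 47, .swap 0, .swap 2, .swap 1, .swap 0, .swap 3, .cancel 2, .swap 4, .swap 3, .swap 2, .swap 1, .cancel 0, .swap 3, .swap 2, .swap 1, .swap 6, .swap 5, .cancel 4, .swap 5, .swap 4, .swap 3, .cancel 2, .swap 3, .cancel 4, .swap 3, .swap 2, .cancel 1, .conj 10, .norm, .lam 49, .weyl [2, 0, 1, 2, 3, 0, 1, 2, 0], .norm]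

/-- A node of the reduction. -/
def node6 : TNode where
  A := [36, 56, 69]
  psi := [46]
  chain := [[]]
  refls := []
  strips := [⟨[46], [], [], []⟩]
  moves := [.weyl [2, 0, 1, 2, 3, 2, 1, 2, 1], .norm]

/-- A node of the reduction. -/
def node7 : TNode where
  A := [36, 56, 69, 46]
  psi := []
  chain := []
  refls := []
  strips := []
  moves := [.weyl [0, 1], .norm, .lam 12, .conj 45, .norm, .weyl [1, 2], .conj 8, .conj 20, .conj 25, .conj 47, .swap 0, .swap 2, .swap 1, .swap 0, .swap 3, .cancel 2, .swap 4, .swap 3, .swap 2, .swap 1, .cancel 0, .swap 3, .swap 2, .swap 1, .swap 6, .swap 5, .cancel 4, .swap 5, .swap 4, .swap 3, .cancel 2, .swap 3, .cancel 4, .swap 3, .swap 2, .cancel 1, .conj 10, .norm, .lam 49, .weyl [2, 0, 1, 2, 3, 0, 1, 2, 0], .norm]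

/-- A node of the reduction. -/
def node8 : TNode where
  A := [37, 42]
  psi := [46, 53, 60, 63, 70, 71]
  chain := [[53, 60, 63, 70, 71], [63, 70, 71], [70, 71], [71], []]
  refls := [⟨63, [0]⟩, ⟨70, [1, 2, 1, 0, 1, 2, 1]⟩, ⟨71, [0]⟩]
  strips := [⟨[46], [53, 60, 63, 70, 71], [⟨[60, 63], [53, 70, 71], [2, 0]⟩, ⟨[70, 71], [53], [2, 0]⟩], [53]⟩,
    ⟨[53], [46, 60, 63, 70, 71], [⟨[60, 70], [46, 63, 71], [2, 0]⟩, ⟨[63, 71], [46], [2, 0]⟩], [46]⟩,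
    ⟨[60], [46, 53, 63, 70, 71], [⟨[46, 63], [71, 53, 70], [2, 0]⟩, ⟨[53, 70], [71], [2, 0]⟩], [71]⟩]
  moves := [.weyl [2, 3]]

/-- A node of the reduction. -/
def node9 : TNode where
  A := [37, 42, 46]
  psi := [53]
  chain := [[]]
  refls := []
  strips := [⟨[53], [], [], []⟩]
  moves := [.weyl [0, 1, 2, 3], .norm]

/-- A node of the reduction. -/
def node10 : TNode where
  A := [37, 42, 46, 53]
  psi := []
  chain := []
  refls := []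
  strips := []
  moves := [.weyl [0, 1, 2, 3], .norm, .lam 12, .conj 45, .norm, .weyl [1, 2], .conj 8, .conj 20, .conj 25, .conj 47, .swap 0, .swap 2, .swap 1, .swap 0, .swap 3, .cancel 2, .swap 4, .swap 3, .swap 2, .swap 1, .cancel 0, .swap 3, .swap 2, .swap 1, .swap 6, .swap 5, .cancel 4, .swap 5, .swap 4, .swap 3, .cancel 2, .swap 3, .cancel 4, .swap 3, .swap 2, .cancel 1, .conj 10, .norm, .lam 49, .weyl [2, 0, 1, 2, 3, 0, 1, 2, 0], .norm]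

/-- A node of the reduction. -/
def node11 : TNode where
  A := [37, 42, 53]
  psi := [46]
  chain := [[]]
  refls := []
  strips := [⟨[46], [], [], []⟩]
  moves := [.weyl [0, 1, 2, 3, 1, 2, 1], .norm]

/-- A node of the reduction. -/
def node12 : TNode where
  A := [37, 42, 53, 46]
  psi := []
  chain := []
  refls := []
  strips := []
  moves := [.weyl [0, 1, 2, 3], .norm, .lam 12, .conj 45, .norm, .weyl [1, 2], .conj 8, .conj 20, .conj 25, .conj 47, .swap 0, .swap 2, .swap 1, .swap 0, .swap 3, .cancel 2, .swap 4, .swap 3, .swap 2, .swap 1, .cancel 0, .swap 3, .swap 2, .swap 1, .swap 6, .swap 5, .cancel 4, .swap 5, .swap 4, .swap 3, .cancel 2, .swap 3, .cancel 4, .swap 3, .swap 2, .cancel 1, .conj 10, .norm, .lam 49, .weyl [2, 0, 1, 2, 3, 0, 1, 2, 0], .norm]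

/-- A node of the reduction. -/
def node13 : TNode where
  A := [37, 42, 60]
  psi := [71]
  chain := [[]]
  refls := []
  strips := [⟨[71], [], [], []⟩]
  moves := [.weyl [2, 3], .norm]

/-- A node of the reduction. -/
def node14 : TNode where
  A := [37, 42, 60, 71]
  psi := []
  chain := []
  refls := []
  strips := []
  moves := [.weyl [2, 3], .norm, .lam 12, .conj 45, .norm, .weyl [1, 2], .conj 8, .conj 20, .conj 25, .conj 47, .swap 0, .swap 2, .swap 1, .swap 0, .swap 3, .cancel 2, .swap 4, .swap 3, .swap 2, .swap 1, .cancel 0, .swap 3, .swap 2, .swap 1, .swap 6, .swap 5, .cancel 4, .swap 5, .swap 4, .swap 3, .cancel 2, .swap 3, .cancel 4, .swap 3, .swap 2, .cancel 1, .conj 10, .norm, .lam 49, .weyl [2, 0, 1, 2, 3, 0, 1, 2, 0], .norm]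

/-- A node of the reduction. -/
def node15 : TNode where
  A := [39]
  psi := [36, 56, 44, 48, 50, 45, 49, 59, 61, 60, 55, 67, 66, 68, 71]
  chain := [[44, 48, 50, 45, 49, 59, 61, 60, 55, 67, 66, 68, 71], [45, 49, 59, 61, 60, 55, 67, 66, 68, 71], [60, 55, 67, 66, 68, 71], [55, 67, 66, 68, 71], [66, 68, 71], [71], []]
  refls := [⟨45, [2, 1, 2]⟩, ⟨49, [3]⟩, ⟨59, [2, 1, 2]⟩, ⟨61, [3]⟩, ⟨60, [3]⟩, ⟨55, [2, 1, 2]⟩, ⟨67, [2, 1, 2]⟩, ⟨66, [3]⟩, ⟨68, [3]⟩, ⟨71, [0, 1, 2, 1, 0]⟩]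
  strips := [⟨[36, 56], [44, 48, 50, 45, 49, 59, 61, 60, 55, 67, 66, 68, 71], [⟨[48, 50, 49, 61], [71, 44, 45, 59, 60, 55, 67, 66, 68], [4, 8, 0, 0]⟩, ⟨[44, 45, 59, 60], [71, 55, 67, 66, 68], [4, 12, 0, 0]⟩, ⟨[55, 67, 66, 68], [71], [4, 8, 0, 0]⟩], [71]⟩,
    ⟨[44], [36, 56, 48, 50, 45, 49, 59, 61, 60, 55, 67, 66, 68, 71], [⟨[36, 56, 45, 59], [48, 50, 60, 66, 68, 71, 49, 61, 55, 67], [4, 8, 0, 0]⟩, ⟨[49, 61, 55, 67], [48, 50, 60, 66, 68, 71], [4, 8, 0, 0]⟩], [48, 50, 60, 66, 68, 71]⟩,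
    ⟨[48, 50], [36, 56, 44, 45, 49, 59, 61, 60, 55, 67, 66, 68, 71], [⟨[36, 56, 49, 61], [44, 45, 59, 60, 55, 67, 66, 68, 71], [4, 8, 0, 0]⟩, ⟨[45, 59, 55, 67], [44, 60, 66, 68, 71], [4, 8, 0, 0]⟩, ⟨[60, 66, 68, 71], [44], [4, 12, 0, 0]⟩], [44]⟩]
  moves := []

/-- A node of the reduction. -/
def node16 : TNode where
  A := [39, 36, 56]
  psi := [71]
  chain := [[]]
  refls := []
  strips := [⟨[71], [], [], []⟩]
  moves := [.norm]

/-- A node of the reduction. -/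
def node17 : TNode where
  A := [39, 36, 56, 71]
  psi := []
  chain := []
  refls := []
  strips := []
  moves := [.norm, .lam 12, .conj 45, .norm, .weyl [1, 2], .conj 8, .conj 20, .conj 25, .conj 47, .swap 0, .swap 2, .swap 1, .swap 0, .swap 3, .cancel 2, .swap 4, .swap 3, .swap 2, .swap 1, .cancel 0, .swap 3, .swap 2, .swap 1, .swap 6, .swap 5, .cancel 4, .swap 5, .swap 4, .swap 3, .cancel 2, .swap 3, .cancel 4, .swap 3, .swap 2, .cancel 1, .conj 10, .norm, .lam 49, .weyl [2, 0, 1, 2, 3, 0, 1, 2, 0], .norm]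

/-- A node of the reduction. -/
def node18 : TNode where
  A := [39, 44]
  psi := [48, 50, 60, 66, 68, 71]
  chain := [[60, 66, 68, 71], [66, 68, 71], [71], []]
  refls := [⟨66, [3, 2, 1, 2, 3]⟩, ⟨68, [3, 2, 1, 2, 3]⟩, ⟨71, [0, 1, 2, 1, 0]⟩]
  strips := [⟨[48, 50], [60, 66, 68, 71], [⟨[60, 66, 68, 71], [], [4, 12, 0, 0]⟩], []⟩,
    ⟨[60], [48, 50, 66, 68, 71], [⟨[48, 50, 66, 68], [71], [4, 8, 0, 0]⟩], [71]⟩]
  moves := [.conj 29, .norm, .lam 37, .weyl [2, 3, 1]]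

/-- A node of the reduction. -/
def node19 : TNode where
  A := [39, 44, 48, 50]
  psi := []
  chain := []
  refls := []
  strips := []
  moves := [.weyl [0, 1, 2, 3, 1, 0], .norm, .lam 12, .conj 45, .norm, .weyl [1, 2], .conj 8, .conj 20, .conj 25, .conj 47, .swap 0, .swap 2, .swap 1, .swap 0, .swap 3, .cancel 2, .swap 4, .swap 3, .swap 2, .swap 1, .cancel 0, .swap 3, .swap 2, .swap 1, .swap 6, .swap 5, .cancel 4, .swap 5, .swap 4, .swap 3, .cancel 2, .swap 3, .cancel 4, .swap 3, .swap 2, .cancel 1, .conj 10, .norm, .lam 49, .weyl [2, 0, 1, 2, 3, 0, 1, 2, 0], .norm]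

/-- A node of the reduction. -/
def node20 : TNode where
  A := [39, 44, 60]
  psi := [71]
  chain := [[]]
  refls := []
  strips := [⟨[71], [], [], []⟩]
  moves := [.conj 14, .norm, .lam 38, .weyl [2, 1]]

/-- A node of the reduction. -/
def node21 : TNode where
  A := [39, 44, 60, 71]
  psi := []
  chain := []
  refls := []
  strips := []
  moves := [.conj 8, .conj 20, .conj 25, .conj 47, .swap 0, .swap 2, .swap 1, .swap 0, .swap 3, .cancel 2, .swap 4, .swap 3, .swap 2, .swap 1, .cancel 0, .swap 3, .swap 2, .swap 1, .swap 6, .swap 5, .cancel 4, .swap 5, .swap 4, .swap 3, .cancel 2, .swap 3, .cancel 4, .swap 3, .swap 2, .cancel 1, .conj 10, .norm, .lam 49, .weyl [2, 0, 1, 2, 3, 0, 1, 2, 0], .norm]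

/-- A node of the reduction. -/
def node22 : TNode where
  A := [39, 48, 50]
  psi := [44]
  chain := [[]]
  refls := []
  strips := [⟨[44], [], [], []⟩]
  moves := [.weyl [0, 1, 2, 3, 1, 0], .norm]

/-- A node of the reduction. -/
def node23 : TNode where
  A := [39, 48, 50, 44]
  psi := []
  chain := []
  refls := []
  strips := []
  moves := [.weyl [0, 1, 2, 3, 1, 0], .norm, .lam 12, .conj 45, .norm, .weyl [1, 2], .conj 8, .conj 20, .conj 25, .conj 47, .swap 0, .swap 2, .swap 1, .swap 0, .swap 3, .cancel 2, .swap 4, .swap 3, .swap 2, .swap 1, .cancel 0, .swap 3, .swap 2, .swap 1, .swap 6, .swap 5, .cancel 4, .swap 5, .swap 4, .swap 3, .cancel 2, .swap 3, .cancel 4, .swap 3, .swap 2, .cancel 1, .conj 10, .norm, .lam 49, .weyl [2, 0, 1, 2, 3, 0, 1, 2, 0], .norm]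

/-- A node of the reduction. -/
def node24 : TNode where
  A := [46]
  psi := [36, 37, 42, 56, 38, 57, 53, 54, 64, 55, 65, 67, 66, 68, 69]
  chain := [[38, 57, 53, 54, 64, 55, 65, 67, 66, 68, 69], [53, 54, 64, 55, 65, 67, 66, 68, 69], [54, 64, 55, 65, 67, 66, 68, 69], [55, 65, 67, 66, 68, 69], [66, 68, 69], [69], []]
  refls := [⟨38, [3]⟩, ⟨57, [3]⟩, ⟨54, [1, 2, 1, 0, 1, 2, 1]⟩, ⟨64, [1, 2, 1, 0, 1, 2, 1]⟩, ⟨55, [2]⟩, ⟨65, [3]⟩, ⟨67, [2]⟩, ⟨66, [3]⟩, ⟨68, [3]⟩, ⟨69, [2]⟩]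
  strips := [⟨[36, 56], [37, 42, 38, 57, 53, 54, 64, 55, 65, 67, 66, 68, 69], [⟨[37, 42, 38, 57], [69, 53, 54, 64, 55, 65, 67, 66, 68], [4, 8, 0, 0]⟩, ⟨[53, 54, 64, 65], [69, 55, 67, 66, 68], [4, 12, 0, 0]⟩, ⟨[55, 67, 66, 68], [69], [4, 8, 0, 0]⟩], [69]⟩,
    ⟨[37, 42], [36, 56, 38, 57, 53, 54, 64, 55, 65, 67, 66, 68, 69], [⟨[36, 56, 38, 57], [53, 54, 64, 55, 65, 67, 66, 68, 69], [4, 8, 0, 0]⟩, ⟨[54, 64, 55, 67], [53, 65, 66, 68, 69], [4, 8, 0, 0]⟩, ⟨[65, 66, 68, 69], [53], [4, 12, 0, 0]⟩], [53]⟩,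
    ⟨[53], [36, 37, 42, 56, 38, 57, 54, 64, 55, 65, 67, 66, 68, 69], [⟨[36, 56, 54, 64], [37, 42, 65, 66, 68, 69, 38, 57, 55, 67], [4, 8, 0, 0]⟩, ⟨[38, 57, 55, 67], [37, 42, 65, 66, 68, 69], [4, 8, 0, 0]⟩], [37, 42, 65, 66, 68, 69]⟩]
  moves := [.weyl [0, 1]]

/-- A node of the reduction. -/
def node25 : TNode where
  A := [46, 36, 56]
  psi := [69]
  chain := [[]]
  refls := []
  strips := [⟨[69], [], [], []⟩]
  moves := [.weyl [0, 1], .norm]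

/-- A node of the reduction. -/
def node26 : TNode where
  A := [46, 36, 56, 69]
  psi := []
  chain := []
  refls := []
  strips := []
  moves := [.weyl [0, 1], .norm, .lam 12, .conj 45, .norm, .weyl [1, 2], .conj 8, .conj 20, .conj 25, .conj 47, .swap 0, .swap 2, .swap 1, .swap 0, .swap 3, .cancel 2, .swap 4, .swap 3, .swap 2, .swap 1, .cancel 0, .swap 3, .swap 2, .swap 1, .swap 6, .swap 5, .cancel 4, .swap 5, .swap 4, .swap 3, .cancel 2, .swap 3, .cancel 4, .swap 3, .swap 2, .cancel 1, .conj 10, .norm, .lam 49, .weyl [2, 0, 1, 2, 3, 0, 1, 2, 0], .norm]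

/-- A node of the reduction. -/
def node27 : TNode where
  A := [46, 37, 42]
  psi := [53]
  chain := [[]]
  refls := []
  strips := [⟨[53], [], [], []⟩]
  moves := [.weyl [0, 1, 2, 3], .norm]

/-- A node of the reduction. -/
def node28 : TNode where
  A := [46, 37, 42, 53]
  psi := []
  chain := []
  refls := []
  strips := []
  moves := [.weyl [0, 1, 2, 3], .norm, .lam 12, .conj 45, .norm, .weyl [1, 2], .conj 8, .conj 20, .conj 25, .conj 47, .swap 0, .swap 2, .swap 1, .swap 0, .swap 3, .cancel 2, .swap 4, .swap 3, .swap 2, .swap 1, .cancel 0, .swap 3, .swap 2, .swap 1, .swap 6, .swap 5, .cancel 4, .swap 5, .swap 4, .swap 3, .cancel 2, .swap 3, .cancel 4, .swap 3, .swap 2, .cancel 1, .conj 10, .norm, .lam 49, .weyl [2, 0, 1, 2, 3, 0, 1, 2, 0], .norm]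

/-- A node of the reduction. -/
def node29 : TNode where
  A := [46, 53]
  psi := [37, 42, 65, 66, 68, 69]
  chain := [[65, 66, 68, 69], [66, 68, 69], [69], []]
  refls := [⟨66, [3, 1, 2, 1, 0, 1, 2, 1, 3]⟩, ⟨68, [3, 1, 2, 1, 0, 1, 2, 1, 3]⟩, ⟨69, [2]⟩]
  strips := [⟨[37, 42], [65, 66, 68, 69], [⟨[65, 66, 68, 69], [], [4, 12, 0, 0]⟩], []⟩,
    ⟨[65], [37, 42, 66, 68, 69], [⟨[37, 42, 66, 68], [69], [4, 8, 0, 0]⟩], [69]⟩]
  moves := [.weyl [0, 1], .conj 29, .norm, .lam 37, .weyl [2, 3, 1]]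

/-- A node of the reduction. -/
def node30 : TNode where
  A := [46, 53, 37, 42]
  psi := []
  chain := []
  refls := []
  strips := []
  moves := [.weyl [0, 1, 2, 3], .norm, .lam 12, .conj 45, .norm, .weyl [1, 2], .conj 8, .conj 20, .conj 25, .conj 47, .swap 0, .swap 2, .swap 1, .swap 0, .swap 3, .cancel 2, .swap 4, .swap 3, .swap 2, .swap 1, .cancel 0, .swap 3, .swap 2, .swap 1, .swap 6, .swap 5, .cancel 4, .swap 5, .swap 4, .swap 3, .cancel 2, .swap 3, .cancel 4, .swap 3, .swap 2, .cancel 1, .conj 10, .norm, .lam 49, .weyl [2, 0, 1, 2, 3, 0, 1, 2, 0], .norm]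

/-- A node of the reduction. -/
def node31 : TNode where
  A := [46, 53, 65]
  psi := [69]
  chain := [[]]
  refls := []
  strips := [⟨[69], [], [], []⟩]
  moves := [.weyl [0, 1], .conj 14, .norm, .lam 38, .weyl [2, 1]]

/-- A node of the reduction. -/
def node32 : TNode where
  A := [46, 53, 65, 69]
  psi := []
  chain := []
  refls := []
  strips := []
  moves := [.weyl [0, 1], .conj 8, .conj 20, .conj 25, .conj 47, .swap 0, .swap 2, .swap 1, .swap 0, .swap 3, .cancel 2, .swap 4, .swap 3, .swap 2, .swap 1, .cancel 0, .swap 3, .swap 2, .swap 1, .swap 6, .swap 5, .cancel 4, .swap 5, .swap 4, .swap 3, .cancel 2, .swap 3, .cancel 4, .swap 3, .swap 2, .cancel 1, .conj 10, .norm, .lam 49, .weyl [2, 0, 1, 2, 3, 0, 1, 2, 0], .norm]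

/-- All nodes, each before its children. -/
def nodeList : List TNode := [node0, node1, node2, node3, node4, node5, node6, node7, node8, node9, node10, node11, node12, node13, node14, node15, node16, node17, node18, node19, node20, node21, node22, node23, node24, node25, node26, node27, node28, node29, node30, node31, node32]

/-- The three representatives. -/
def tgts : List (List ℕ) := [[39], [36, 56], [36, 39, 56]]

end Cfsg.Agent.InvolTwist.E6
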